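import Mathlib

/-!
# Avoidance lemma for immediate specializations

In a Noetherian ring, given primes `p₀ < q` and `f ∉ p₀`, there is a prime `p` with
`p₀ ≤ p < q`, `f ∉ p` and no prime strictly between `p` and `q`.
-/

set_option autoImplicit false

namespace Groth.Agent.Lib.Helper39.CC

open Ideal

/-- In a Noetherian domain, if `⊥ < r < q` are primes and `f ≠ 0`, there is a prime `P`
with `⊥ < P < q` and `f ∉ P`. -/
theorem exists_prime_between_not_mem {R : Type*} [CommRing R] [IsDomain R] [IsNoetherianRing R]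
    (r q : Ideal R) [r.IsPrime] [q.IsPrime] (hr : r ≠ ⊥) (hrq : r < q) (f : R) (hf : f ≠ 0) :
    ∃ P : Ideal R, P.IsPrime ∧ P ≠ ⊥ ∧ P < q ∧ f ∉ P := by
  classical
  by_contra hcon
  have hall : ∀ P : Ideal R, P.IsPrime → P ≠ ⊥ → P < q → f ∈ P := by
    intro P hP hP0 hPq
    by_contra hfP
    exact hcon ⟨P, hP, hP0, hPq, hfP⟩
  have hfr : f ∈ r := hall r inferInstance hr hrq
  -- height of q is at least 2
  have hbot : (⊥ : Ideal R) < r := bot_lt_iff_ne_bot.mpr hr
  have h1 : (⊥ : Ideal R).height < r.height := Ideal.height_strict_mono_of_isPrime hbot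
  have h2 : r.height < q.height := Ideal.height_strict_mono_of_isPrime hrq
  have hq2 : (1 : ℕ∞) < q.height := by
    have h3 : (1 : ℕ∞) ≤ r.height := Order.one_le_iff_pos.mpr (lt_of_le_of_lt zero_le h1)
    exact lt_of_le_of_lt h3 h2
  -- every element of q lies in a minimal prime of span {f}
  have hfin : ((Ideal.span {f}).minimalPrimes).Finite :=
    Ideal.finite_minimalPrimes_of_isNoetherianRing R _
  have hsub : (q : Set R) ⊆ ⋃ P ∈ (hfin.toFinset : Set (Ideal R)), (P : Set R) := by
    intro x hx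
    have hxq : x ∈ q := hx
    obtain ⟨P, hPmin, hPq⟩ := Ideal.exists_minimalPrimes_le
      (I := Ideal.span {x}) (J := q) ((Ideal.span_singleton_le_iff_mem _).mpr hxq)
    have hPprime : P.IsPrime := hPmin.1.1
    have hPh : P.height ≤ 1 := Ideal.height_le_one_of_isPrincipal_of_mem_minimalPrimes _ P hPmin
    have hPneq : P ≠ q := by
      rintro rfl
      exact absurd hPh (not_le.mpr hq2)
    have hPlt : P < q := lt_of_le_of_ne hPq hPneq
    have hxP : x ∈ P := hPmin.1.2 (Ideal.mem_span_singleton_self x)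
    by_cases hx0 : x = 0
    · -- use a minimal prime of span {f} below r
      obtain ⟨P', hP'min, _⟩ := Ideal.exists_minimalPrimes_le
        (I := Ideal.span {f}) (J := r) ((Ideal.span_singleton_le_iff_mem _).mpr hfr)
      refine Set.mem_biUnion (x := P') ?_ ?_
      · simpa using hP'min
      · rw [hx0]; exact P'.zero_mem
    · have hP0 : P ≠ ⊥ := by
        rintro rfl
        exact hx0 (by simpa using hxP)
      have hfP : f ∈ P := hall P hPprime hP0 hPlt
      have hPminf : P ∈ (Ideal.span {f}).minimalPrimes := by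
        refine ⟨⟨hPprime, (Ideal.span_singleton_le_iff_mem _).mpr hfP⟩, ?_⟩
        rintro P'' ⟨hP''prime, hP''f⟩ hP''P
        by_contra hnot
        have hlt : P'' < P := lt_of_le_of_ne hP''P (fun e => hnot (e ▸ le_rfl))
        have hP''0 : P'' ≠ ⊥ := by
          rintro rfl
          exact hf (by simpa using hP''f (Ideal.mem_span_singleton_self f))
        have hb : (⊥ : Ideal R) < P'' := bot_lt_iff_ne_bot.mpr hP''0
        have e1 : (⊥ : Ideal R).height < P''.height := Ideal.height_strict_mono_of_isPrime hb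
        have e2 : P''.height < P.height := Ideal.height_strict_mono_of_isPrime hlt
        have e3 : (1 : ℕ∞) ≤ P''.height :=
          Order.one_le_iff_pos.mpr (lt_of_le_of_lt zero_le e1)
        exact absurd hPh (not_le.mpr (lt_of_le_of_lt e3 e2))
      refine Set.mem_biUnion (x := P) ?_ hxP
      simpa using hPminf
  have hprime : ∀ i ∈ hfin.toFinset, i ≠ (⊥ : Ideal R) → i ≠ (⊥ : Ideal R) → IsPrime ((fun P : Ideal R => P) i) := by
    intro i hi _ _
    have : i ∈ (Ideal.span {f}).minimalPrimes := by simpa using hi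
    exact this.1.1
  obtain ⟨P, hPmem, hqP⟩ := (Ideal.subset_union_prime (s := hfin.toFinset) (f := fun P : Ideal R => P)
    ⊥ ⊥ hprime).mp hsub
  have hPmin : P ∈ (Ideal.span {f}).minimalPrimes := by simpa using hPmem
  have hPh : P.height ≤ 1 := Ideal.height_le_one_of_isPrincipal_of_mem_minimalPrimes _ P hPmin
  exact absurd ((Ideal.height_mono hqP).trans hPh) (not_le.mpr hq2)

/-- **Avoidance lemma.**  In a Noetherian ring, given primes `p₀ < q` and `f ∉ p₀`,
there is a prime `p` with `p₀ ≤ p < q`, `f ∉ p`, and such that there is no prime strictly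
between `p` and `q`. -/
theorem exists_prime_covBy_not_mem {R : Type*} [CommRing R] [IsNoetherianRing R]
    (p₀ q : Ideal R) [p₀.IsPrime] [q.IsPrime] (hlt : p₀ < q) (f : R) (hf : f ∉ p₀) :
    ∃ p : Ideal R, p.IsPrime ∧ p₀ ≤ p ∧ p < q ∧ f ∉ p ∧
      ∀ r : Ideal R, r.IsPrime → p < r → r ≤ q → r = q := by
  classical
  let Sg : Set (Ideal R) := {p | p.IsPrime ∧ p₀ ≤ p ∧ p < q ∧ f ∉ p}
  have hne : Sg.Nonempty := ⟨p₀, inferInstance, le_rfl, hlt, hf⟩
  obtain ⟨p, hpS, hpmax⟩ := set_has_maximal_iff_noetherian.mpr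
    (inferInstance : IsNoetherian R R) Sg hne
  obtain ⟨hpprime, hp0, hpq, hfp⟩ := hpS
  refine ⟨p, hpprime, hp0, hpq, hfp, ?_⟩
  intro r hrprime hpr hrq
  by_contra hne'
  have hrq' : r < q := lt_of_le_of_ne hrq hne'
  -- pass to the quotient by p
  let R' := R ⧸ p
  let mk : R →+* R' := Ideal.Quotient.mk p
  have hmk : Function.Surjective mk := Ideal.Quotient.mk_surjective
  have hker : RingHom.ker mk = p := Ideal.mk_ker
  haveI : IsDomain R' := Ideal.Quotient.isDomain p
  let r' := r.map mk
  let q' := q.map mk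
  haveI hr'prime : r'.IsPrime := Ideal.map_isPrime_of_surjective hmk (by rw [hker]; exact hpr.le)
  haveI hq'prime : q'.IsPrime := Ideal.map_isPrime_of_surjective hmk (by rw [hker]; exact hpq.le)
  have hcomap_r : r'.comap mk = r := by
    rw [Ideal.comap_map_of_surjective mk hmk, ← RingHom.ker_eq_comap_bot, hker]
    exact sup_eq_left.mpr hpr.le
  have hcomap_q : q'.comap mk = q := by
    rw [Ideal.comap_map_of_surjective mk hmk, ← RingHom.ker_eq_comap_bot, hker]
    exact sup_eq_left.mpr hpq.le
  have hr'0 : r' ≠ ⊥ := by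
    intro e
    have : r = p := by
      rw [← hcomap_r, e, ← RingHom.ker_eq_comap_bot, hker]
    exact hpr.ne' this
  have hr'q' : r' < q' := by
    refine lt_of_le_of_ne (Ideal.map_mono hrq) ?_
    intro e
    apply hne'
    rw [← hcomap_r, ← hcomap_q, e]
  have hf' : mk f ≠ 0 := by
    intro e
    exact hfp (Ideal.Quotient.eq_zero_iff_mem.mp e)
  obtain ⟨P', hP'prime, hP'0, hP'q', hfP'⟩ :=
    exists_prime_between_not_mem r' q' hr'0 hr'q' (mk f) hf'
  let P := P'.comap mk
  have hPprime : P.IsPrime := Ideal.comap_isPrime mk P'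
  have hpP : p < P := by
    have hle : p ≤ P := by
      rw [← hker, RingHom.ker_eq_comap_bot]
      exact Ideal.comap_mono bot_le
    refine lt_of_le_of_ne hle ?_
    intro e
    apply hP'0
    have : P'.comap mk = (⊥ : Ideal R').comap mk := by
      rw [← RingHom.ker_eq_comap_bot, hker]; exact e.symm
    exact Ideal.comap_injective_of_surjective mk hmk this
  have hPq : P < q := by
    rw [← hcomap_q]
    refine lt_of_le_of_ne (Ideal.comap_mono hP'q'.le) ?_
    intro e
    exact hP'q'.ne (Ideal.comap_injective_of_surjective mk hmk e)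
  have hfP : f ∉ P := fun h => hfP' h
  have hPS : P ∈ Sg := ⟨hPprime, hp0.trans hpP.le, hPq, hfP⟩
  exact hpmax P hPS hpP

end Groth.Agent.Lib.Helper39.CC
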