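import Mathlib
import Groth.Prelude.Def_Found

set_option autoImplicit false
set_option linter.style.haveILetI false
universe u
open TensorProduct

namespace Groth.Agent.Lib.Helper39.CC

/-- A prime `p₁` of a finite type `R`-algebra `D` lying over `(0)` of the domain `R` has a
specialization in the generic fibre whose residue field is finite over `Frac R`. -/
theorem exists_finite_field_point (R : Type u) [CommRing R] [IsDomain R] (D : Type u) [CommRing D]
    [Algebra R D] [Algebra.FiniteType R D]
    (p₁ : Ideal D) [p₁.IsPrime] (hp₁ : p₁.comap (algebraMap R D) = ⊥) :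
    ∃ (K : Type u) (_ : Field K) (_ : Algebra (FractionRing R) K) (_ : Algebra R K)
      (_ : IsScalarTower R (FractionRing R) K) (_ : FiniteDimensional (FractionRing R) K)
      (ψ : D →ₐ[R] K), p₁ ≤ RingHom.ker (ψ : D →+* K) := by
  classical
  let D' := D ⧸ p₁
  haveI : IsDomain D' := Ideal.Quotient.isDomain p₁
  have hinj : Function.Injective (algebraMap R D') := by
    rw [injective_iff_map_eq_zero]
    intro x hx
    have h1 : algebraMap R D x ∈ p₁ := by
      rw [← Ideal.Quotient.eq_zero_iff_mem]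
      exact hx
    have h2 : x ∈ p₁.comap (algebraMap R D) := h1
    rw [hp₁] at h2
    exact h2
  haveI : Algebra.FiniteType R D' :=
    Algebra.FiniteType.of_surjective (Ideal.Quotient.mkₐ R p₁) (Ideal.Quotient.mkₐ_surjective R p₁)
  let FD := FractionRing R ⊗[R] D'
  -- nontriviality of FD
  let L := FractionRing D'
  haveI : FaithfulSMul R L := by
    rw [faithfulSMul_iff_algebraMap_injective, IsScalarTower.algebraMap_eq R D' L]
    exact (IsFractionRing.injective D' L).comp hinj
  letI : Algebra (FractionRing R) L := FractionRing.liftAlgebra R L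
  haveI : IsScalarTower R (FractionRing R) L := FractionRing.isScalarTower_liftAlgebra R L
  let φ : FD →ₐ[FractionRing R] L :=
    Algebra.TensorProduct.lift (Algebra.ofId (FractionRing R) L)
      (IsScalarTower.toAlgHom R D' L) (fun _ _ => Commute.all _ _)
  haveI : Nontrivial FD := RingHom.domain_nontrivial (φ : FD →+* L)
  obtain ⟨M, hM⟩ := Ideal.exists_maximal FD
  let K := FD ⧸ M
  letI : Field K := Ideal.Quotient.field M
  haveI : Algebra.FiniteType (FractionRing R) K :=
    Algebra.FiniteType.of_surjective (Ideal.Quotient.mkₐ (FractionRing R) M)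
      (Ideal.Quotient.mkₐ_surjective _ M)
  haveI : Module.Finite (FractionRing R) K :=
    finite_of_finite_type_of_isJacobsonRing (FractionRing R) K
  let ψ : D →ₐ[R] K :=
    ((Ideal.Quotient.mkₐ R M).comp
      (Algebra.TensorProduct.includeRight : D' →ₐ[R] FD)).comp (Ideal.Quotient.mkₐ R p₁)
  refine ⟨K, inferInstance, inferInstance, inferInstance, inferInstance, inferInstance, ψ, ?_⟩
  intro x hx
  rw [RingHom.mem_ker]
  have : (Ideal.Quotient.mkₐ R p₁) x = 0 := Ideal.Quotient.eq_zero_iff_mem.mpr hx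
  change ((Ideal.Quotient.mkₐ R M).comp
      (Algebra.TensorProduct.includeRight : D' →ₐ[R] FD)) ((Ideal.Quotient.mkₐ R p₁) x) = 0
  rw [this, map_zero]



theorem normal_curve_package (R : Type u) [CommRing R] [IsDomain R] (hN2 : CAlg.IsN2 R)
    (K : Type u) [Field K] [Algebra (FractionRing R) K] [Algebra R K]
    [IsScalarTower R (FractionRing R) K] [FiniteDimensional (FractionRing R) K]
    (𝔮 : Ideal R) [𝔮.IsPrime] (h𝔮 : 𝔮 ≠ ⊥)
    (hcov : ∀ P : Ideal R, P.IsPrime → P < 𝔮 → P = ⊥)
    (h : R) (hh : h ∉ 𝔮) (hcl : ∀ Q : Ideal R, Q.IsPrime → 𝔮 < Q → h ∈ Q) :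
    Module.Finite R (integralClosure R K) ∧ IsIntegrallyClosed (integralClosure R K) ∧
    IsFractionRing (integralClosure R K) K ∧
    ∃ n : Ideal (integralClosure R K), n.IsPrime ∧
      n.comap (algebraMap R (integralClosure R K)) = 𝔮 ∧ n ≠ ⊥ ∧
      (∀ P : Ideal (integralClosure R K), P.IsPrime → P < n → P = ⊥) ∧
      algebraMap R (integralClosure R K) h ∉ n ∧
      (∀ Q : Ideal (integralClosure R K), Q.IsPrime → n < Q →
        algebraMap R (integralClosure R K) h ∈ Q) := by
  classical
  have hfin : Module.Finite R (integralClosure R K) := hN2 K inferInstance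
  have hic : IsIntegrallyClosed (integralClosure R K) :=
    integralClosure.isIntegrallyClosedOfFiniteExtension (FractionRing R)
  have hfr : IsFractionRing (integralClosure R K) K :=
    integralClosure.isFractionRing_of_finite_extension (FractionRing R) K
  refine ⟨hfin, hic, hfr, ?_⟩
  set R₁ := integralClosure R K with hR₁
  haveI : Algebra.IsIntegral R R₁ := inferInstance
  have hinjK : Function.Injective (algebraMap R K) := by
    rw [IsScalarTower.algebraMap_eq R (FractionRing R) K]
    exact (algebraMap (FractionRing R) K).injective.comp (IsFractionRing.injective R _)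
  have hinj : Function.Injective (algebraMap R R₁) := by
    intro x y hxy
    apply hinjK
    have := congrArg (algebraMap R₁ K) hxy
    rwa [← IsScalarTower.algebraMap_apply, ← IsScalarTower.algebraMap_apply] at this
  obtain ⟨n, -, hnprime, hncomap⟩ := Ideal.exists_ideal_over_prime_of_isIntegral 𝔮 (⊥ : Ideal R₁)
    (by
      rw [← RingHom.ker_eq_comap_bot, (RingHom.injective_iff_ker_eq_bot _).mp hinj]
      exact bot_le)
  refine ⟨n, hnprime, hncomap, ?_, ?_, ?_, ?_⟩
  · rintro rfl
    apply h𝔮
    rw [← hncomap, ← RingHom.ker_eq_comap_bot, (RingHom.injective_iff_ker_eq_bot _).mp hinj]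
  · intro P hP hPn
    obtain ⟨x, hxn, hxP⟩ := SetLike.exists_of_lt hPn
    have hlt : P.comap (algebraMap R R₁) < n.comap (algebraMap R R₁) :=
      Ideal.comap_lt_comap_of_integral_mem_sdiff hPn.le ⟨hxn, hxP⟩
        (Algebra.IsIntegral.isIntegral x)
    rw [hncomap] at hlt
    have := hcov _ (Ideal.comap_isPrime _ P) hlt
    exact Ideal.eq_bot_of_comap_eq_bot this
  · intro hmem
    apply hh
    rw [← hncomap]
    exact hmem
  · intro Q hQ hnQ
    obtain ⟨x, hxQ, hxn⟩ := SetLike.exists_of_lt hnQ
    have hlt : n.comap (algebraMap R R₁) < Q.comap (algebraMap R R₁) :=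
      Ideal.comap_lt_comap_of_integral_mem_sdiff hnQ.le ⟨hxQ, hxn⟩
        (Algebra.IsIntegral.isIntegral x)
    rw [hncomap] at hlt
    exact hcl _ (Ideal.comap_isPrime _ Q) hlt

/-- Shrinking to a basic open neighbourhood of a "height one" prime. -/
theorem exists_basicOpen_nbhd (R₁ : Type u) [CommRing R₁] [IsDomain R₁] [IsNoetherianRing R₁]
    (n : Ideal R₁) [n.IsPrime]
    (hα : ∀ P : Ideal R₁, P.IsPrime → P < n → P = ⊥) (I : Ideal R₁) (hI : I ≠ ⊥)
    (h₁ : R₁) (hh : h₁ ∉ n) (hγ : ∀ Q : Ideal R₁, Q.IsPrime → n < Q → h₁ ∈ Q) :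
    ∃ s : R₁, s ∉ n ∧ (∀ x : Ideal R₁, x.IsPrime → s ∉ x → x ≠ n → ¬ I ≤ x) ∧
      (∀ x : Ideal R₁, x.IsPrime → s ∉ x → n ≤ x → x = n) := by
  classical
  have hfin : (I.minimalPrimes).Finite := Ideal.finite_minimalPrimes_of_isNoetherianRing R₁ I
  have hex : ∀ P : Ideal R₁, P ∈ I.minimalPrimes → P ≠ n → ∃ s, s ∈ P ∧ s ∉ n := by
    intro P hP hPn
    by_contra hcon
    have hle : P ≤ n := by
      intro s hs
      by_contra hsn
      exact hcon ⟨s, hs, hsn⟩
    have hlt : P < n := lt_of_le_of_ne hle hPn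
    have := hα P hP.1.1 hlt
    apply hI
    rw [eq_bot_iff, ← this]
    exact hP.1.2
  let t : Ideal R₁ → R₁ := fun P =>
    if hP : P ∈ I.minimalPrimes ∧ P ≠ n then (hex P hP.1 hP.2).choose else 1
  have ht_mem : ∀ P, P ∈ I.minimalPrimes → P ≠ n → t P ∈ P := by
    intro P hP hPn
    simp only [t, dif_pos (And.intro hP hPn)]
    exact (hex P hP hPn).choose_spec.1
  have ht_not : ∀ P, t P ∉ n := by
    intro P
    by_cases hP : P ∈ I.minimalPrimes ∧ P ≠ n
    · simp only [t, dif_pos hP]
      exact (hex P hP.1 hP.2).choose_spec.2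
    · simp only [t, dif_neg hP]
      exact fun h1 => (inferInstance : n.IsPrime).ne_top ((Ideal.eq_top_iff_one _).mpr h1)
  let s : R₁ := h₁ * ∏ P ∈ hfin.toFinset, t P
  have hprod : (∏ P ∈ hfin.toFinset, t P) ∉ n := by
    intro hmem
    obtain ⟨P, -, hP⟩ := Ideal.IsPrime.prod_mem_iff.mp hmem
    exact ht_not P hP
  refine ⟨s, ?_, ?_, ?_⟩
  · intro hmem
    rcases (inferInstance : n.IsPrime).mem_or_mem hmem with h1 | h1
    · exact hh h1
    · exact hprod h1
  · intro x hx hsx hxn hIx
    obtain ⟨P, hPmin, hPx⟩ := Ideal.exists_minimalPrimes_le hIx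
    by_cases hPn : P = n
    · subst hPn
      have hlt : P < x := lt_of_le_of_ne hPx (Ne.symm hxn)
      exact hsx (x.mul_mem_right _ (hγ x hx hlt))
    · have h1 : t P ∈ x := hPx (ht_mem P hPmin hPn)
      have h2 : (∏ P ∈ hfin.toFinset, t P) ∈ x :=
        Ideal.prod_mem (s := hfin.toFinset) x (i := P) (hfin.mem_toFinset.mpr hPmin) h1
      exact hsx (x.mul_mem_left _ h2)
  · intro x hx hsx hnx
    by_contra hne
    have hlt : n < x := lt_of_le_of_ne hnx (Ne.symm hne)
    exact hsx (x.mul_mem_right _ (hγ x hx hlt))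

end Groth.Agent.Lib.Helper39.CC
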