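import Mathlib
import Groth.Prelude.Def_Found
import Groth.Agent.Lib.Helper39.CC.Ring

set_option autoImplicit false
set_option linter.style.haveILetI false
universe u
open CategoryTheory AlgebraicGeometry

namespace Groth.Agent.Lib.Helper39.CC

/-- The curve criterion of S7449 (existence part). -/
def CurveCrit {S X Y : Scheme.{u}} (q : Y ⟶ S) (f : X ⟶ Y) : Prop :=
  ∀ (C : Scheme.{u}) (r : C ⟶ S) [IsIntegral C] [LocallyOfFiniteType r] [QuasiCompact r],
        (∀ x : C, IsIntegrallyClosed (C.presheaf.stalk x)) →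
        ∀ (c : C), IsClosed ({c} : Set C) → ringKrullDim (C.presheaf.stalk c) = 1 →
        ∀ (U : C.Opens), (U : Set C) = {c}ᶜ →
        ∀ (u : (U : Scheme.{u}) ⟶ X) (g : C ⟶ Y), g ≫ q = r → u ≫ f = U.ι ≫ g →
        ∀ (k : Spec (CommRingCat.of (FractionRing (C.presheaf.stalk c))) ⟶ (U : Scheme.{u})),
          k ≫ U.ι = Spec.map (CommRingCat.ofHom (algebraMap (C.presheaf.stalk c)
            (FractionRing (C.presheaf.stalk c)))) ≫ C.fromSpecStalk c →
        ∃ l : Spec (C.presheaf.stalk c) ⟶ X, l ≫ f = C.fromSpecStalk c ≫ g ∧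
          Spec.map (CommRingCat.ofHom (algebraMap (C.presheaf.stalk c) (FractionRing (C.presheaf.stalk c)))) ≫ l =
            k ≫ u

theorem isIntegrallyClosed_stalk_Spec (R₁ : Type u) [CommRing R₁] [IsDomain R₁]
    [IsIntegrallyClosed R₁] (y : Spec (CommRingCat.of R₁)) :
    IsIntegrallyClosed ((Spec (CommRingCat.of R₁)).presheaf.stalk y) := by
  haveI : y.asIdeal.IsPrime := PrimeSpectrum.isPrime y
  let k : Algebra R₁ ((Spec (CommRingCat.of R₁)).presheaf.stalk y) :=
    StructureSheaf.stalkAlgebra R₁ y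
  have : IsLocalization.AtPrime ((Spec (CommRingCat.of R₁)).presheaf.stalk y) y.asIdeal :=
    StructureSheaf.IsLocalization.to_stalk R₁ y
  exact isIntegrallyClosed_of_isLocalization (R := R₁) _ y.asIdeal.primeCompl
    y.asIdeal.primeCompl_le_nonZeroDivisors

theorem isIntegrallyClosed_stalk_of_isOpenImmersion (R₁ : Type u) [CommRing R₁] [IsDomain R₁]
    [IsIntegrallyClosed R₁] {C : Scheme.{u}} (j : C ⟶ Spec (CommRingCat.of R₁))
    [IsOpenImmersion j] (x : C) : IsIntegrallyClosed (C.presheaf.stalk x) := by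
  haveI := isIntegrallyClosed_stalk_Spec R₁ (j x)
  exact IsIntegrallyClosed.of_equiv (asIso (Scheme.Hom.stalkMap j x)).commRingCatIsoToRingEquiv

theorem ringKrullDim_stalk_of_isOpenImmersion (R₁ : Type u) [CommRing R₁]
    {C : Scheme.{u}} (j : C ⟶ Spec (CommRingCat.of R₁))
    [IsOpenImmersion j] (x : C) :
    ringKrullDim (C.presheaf.stalk x) = ((j x).asIdeal.height : WithBot ℕ∞) := by
  rw [ringKrullDim_stalk_eq_coheight, ← coheight_eq_of_isOpenImmersion j,
    ← idealHeight_eq_coheight]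

theorem height_eq_one_of_covBy_bot {R₁ : Type*} [CommRing R₁] [IsDomain R₁]
    (n : Ideal R₁) [n.IsPrime] (hn0 : n ≠ ⊥)
    (hα : ∀ P : Ideal R₁, P.IsPrime → P < n → P = ⊥) : n.height = 1 := by
  apply le_antisymm
  · have : n.height ≤ ((1 : ℕ) : ℕ∞) := by
      rw [Ideal.height_le_iff]
      intro P hP hPn
      rw [hα P hP hPn, Ideal.height_bot]
      exact zero_lt_one
    exact_mod_cast this
  · rw [Order.one_le_iff_pos, pos_iff_ne_zero]
    intro h0
    exact hn0 (Ideal.height_eq_zero_iff_eq_bot.mp h0)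

end Groth.Agent.Lib.Helper39.CC
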