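import Mathlib
import Groth.Prelude.Def_Found
import Groth.Agent.Lib.Helper39.CC.Curve0

set_option autoImplicit false
set_option linter.style.haveILetI false
universe u
open CategoryTheory AlgebraicGeometry

namespace Groth.Agent.Lib.Helper39.CC

theorem curve_step {S X Y : Scheme.{u}} (q : Y ⟶ S) (f : X ⟶ Y) (Hcrit : CurveCrit q f)
    (R₁ : Type u) [CommRing R₁] [IsDomain R₁] [IsNoetherianRing R₁] [IsIntegrallyClosed R₁]
    (n : Ideal R₁) [n.IsPrime] (hn0 : n ≠ ⊥)
    (hα : ∀ P : Ideal R₁, P.IsPrime → P < n → P = ⊥)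
    (h₁ : R₁) (hh : h₁ ∉ n) (hγ : ∀ Q : Ideal R₁, Q.IsPrime → n < Q → h₁ ∈ Q)
    (s₁ : Spec (CommRingCat.of R₁) ⟶ S) [LocallyOfFiniteType s₁]
    (g₁ : Spec (CommRingCat.of R₁) ⟶ Y) (hg₁ : g₁ ≫ q = s₁)
    {P T : Scheme.{u}} (a : P ⟶ X) (b : P ⟶ T) (gT : T ⟶ Y) (hP : IsPullback a b f gT)
    (π : Spec (CommRingCat.of R₁) ⟶ T) (hπ : π ≫ gT = g₁)
    (Z : Set P) (hZ : IsClosed Z)
    (V : (Spec (CommRingCat.of R₁)).Opens) (η : Spec (CommRingCat.of R₁)) (hη : η ∈ V)
    (hηgen : ∀ x, η ⤳ x)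
    (v : (V : Scheme.{u}) ⟶ P) (hv : v ≫ b = V.ι ≫ π) (hvη : v ⟨η, hη⟩ ∈ Z) :
    ∃ z ∈ Z, b z = π (⟨n, inferInstance⟩ : PrimeSpectrum R₁) := by
  classical
  -- the whole image of `v` lies in `Z`
  have hvZ : ∀ x : V, v x ∈ Z := by
    intro x
    have h1 : (⟨η, hη⟩ : V) ⤳ x := (subtype_specializes_iff _ _).mpr (hηgen x.1)
    exact hZ.stableUnderSpecialization (h1.map v.continuous) hvη
  -- ideal of the complement of V
  obtain ⟨I, hI⟩ := (PrimeSpectrum.isClosed_iff_zeroLocus_ideal _).mp V.isOpen.isClosed_compl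
  have hI0 : I ≠ ⊥ := by
    rintro rfl
    have : η ∈ ((V : Set (Spec (CommRingCat.of R₁))))ᶜ := by
      rw [hI]
      refine (PrimeSpectrum.mem_zeroLocus (η : PrimeSpectrum R₁) _).mpr ?_
      intro y hy
      rw [(Submodule.mem_bot R₁).mp hy]
      exact Ideal.zero_mem _
    exact this hη
  obtain ⟨s, hsn, hs1, hs2⟩ := exists_basicOpen_nbhd R₁ n hα I hI0 h₁ hh hγ
  let W : (Spec (CommRingCat.of R₁)).Opens := PrimeSpectrum.basicOpen s
  let c₀ : PrimeSpectrum R₁ := ⟨n, inferInstance⟩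
  have hc₀W : c₀ ∈ W := hsn
  have hWV : ∀ x : PrimeSpectrum R₁, x ∈ W → x ≠ c₀ → x ∈ V := by
    intro x hxW hxc
    by_contra hxV
    have hx : x ∈ ((V : Set (Spec (CommRingCat.of R₁))))ᶜ := hxV
    rw [hI] at hx
    have hx' : (I : Set R₁) ⊆ x.asIdeal := (PrimeSpectrum.mem_zeroLocus x _).mp hx
    exact hs1 x.asIdeal x.isPrime hxW (fun e => hxc (PrimeSpectrum.ext e)) hx'
  haveI : Nonempty W := ⟨⟨c₀, hc₀W⟩⟩
  let c : (W : Scheme.{u}) := ⟨c₀, hc₀W⟩
  have hcl : IsClosed ({c} : Set (W : Scheme.{u})) := by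
    rw [← closure_eq_iff_isClosed]
    refine subset_antisymm ?_ subset_closure
    intro x hx
    have h1 : c ⤳ x := specializes_iff_mem_closure.mpr hx
    have h2 : c₀ ⤳ x.1 := (subtype_specializes_iff _ _).mp h1
    have h3 : n ≤ x.1.asIdeal := (PrimeSpectrum.le_iff_specializes c₀ x.1).mpr h2
    have h4 := hs2 x.1.asIdeal x.1.isPrime x.2 h3
    exact Subtype.ext (PrimeSpectrum.ext h4)
  have hnormal : ∀ x : (W : Scheme.{u}), IsIntegrallyClosed ((W : Scheme.{u}).presheaf.stalk x) :=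
    fun x => isIntegrallyClosed_stalk_of_isOpenImmersion R₁ W.ι x
  have hdim : ringKrullDim ((W : Scheme.{u}).presheaf.stalk c) = 1 := by
    rw [ringKrullDim_stalk_of_isOpenImmersion R₁ W.ι c]
    have : (W.ι c).asIdeal = n := rfl
    rw [this, height_eq_one_of_covBy_bot n hn0 hα]
    rfl
  let U : (W : Scheme.{u}).Opens := ⟨{c}ᶜ, hcl.isOpen_compl⟩
  have hU : (U : Set (W : Scheme.{u})) = {c}ᶜ := rfl
  have hrange : Set.range (U.ι ≫ W.ι) ⊆ Set.range V.ι := by
    rintro _ ⟨x, rfl⟩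
    rw [Scheme.Opens.range_ι]
    have hx : (x.1 : (W : Scheme.{u})) ≠ c := x.2
    apply hWV _ x.1.2
    intro e
    exact hx (Subtype.ext e)
  let j : (U : Scheme.{u}) ⟶ (V : Scheme.{u}) := IsOpenImmersion.lift V.ι (U.ι ≫ W.ι) hrange
  have hj : j ≫ V.ι = U.ι ≫ W.ι := IsOpenImmersion.lift_fac _ _ _
  let u : (U : Scheme.{u}) ⟶ X := j ≫ v ≫ a
  let g : (W : Scheme.{u}) ⟶ Y := W.ι ≫ g₁
  let r : (W : Scheme.{u}) ⟶ S := W.ι ≫ s₁
  have hgr : g ≫ q = r := by
    simp only [g, r, Category.assoc, hg₁]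
  have hug : u ≫ f = U.ι ≫ g := by
    simp only [u, g, Category.assoc]
    rw [hP.w, reassoc_of% hv, reassoc_of% hj, hπ]
  haveI : IsIntegral (W : Scheme.{u}) := inferInstance
  haveI : IsDomain ((W : Scheme.{u}).presheaf.stalk c) := inferInstance
  haveI : LocallyOfFiniteType r := by dsimp only [r]; infer_instance
  haveI : QuasiCompact r := by
    haveI : TopologicalSpace.NoetherianSpace (W : Scheme.{u}) := by
      haveI : TopologicalSpace.NoetherianSpace (Spec (CommRingCat.of R₁)) :=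
        inferInstanceAs (TopologicalSpace.NoetherianSpace (PrimeSpectrum R₁))
      exact inferInstanceAs (TopologicalSpace.NoetherianSpace
        ((W : Set (Spec (CommRingCat.of R₁)))))
    infer_instance
  -- the generic point map
  let A := (W : Scheme.{u}).presheaf.stalk c
  let φ₀ : Spec (CommRingCat.of (FractionRing A)) ⟶ (W : Scheme.{u}) :=
    Spec.map (CommRingCat.ofHom (algebraMap A (FractionRing A))) ≫ (W : Scheme.{u}).fromSpecStalk c
  have hrange' : Set.range φ₀ ⊆ Set.range U.ι := by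
    rintro _ ⟨pt, rfl⟩
    rw [Scheme.Opens.range_ι]
    change φ₀ pt ∈ ({c}ᶜ : Set _)
    intro (e : φ₀ pt = c)
    have e1 : (W : Scheme.{u}).fromSpecStalk c
        (Spec.map (CommRingCat.ofHom (algebraMap A (FractionRing A))) pt) =
        (W : Scheme.{u}).fromSpecStalk c (IsLocalRing.closedPoint A) := by
      rw [Scheme.fromSpecStalk_closedPoint]
      exact e
    have e2 := ((W : Scheme.{u}).fromSpecStalk c).isEmbedding.injective e1
    have e3 : IsLocalRing.maximalIdeal A = ⊥ := by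
      have e4 := congrArg PrimeSpectrum.asIdeal e2
      have e5 : (Spec.map (CommRingCat.ofHom (algebraMap A (FractionRing A))) pt).asIdeal =
          pt.asIdeal.comap (algebraMap A (FractionRing A)) := rfl
      rw [e5] at e4
      have e6 : pt.asIdeal = ⊥ := by
        haveI := pt.isPrime
        exact ((Ideal.eq_bot_or_top pt.asIdeal).resolve_right (Ideal.IsPrime.ne_top')) 
      rw [e6, ← RingHom.ker_eq_comap_bot,
        (RingHom.injective_iff_ker_eq_bot _).mp (IsFractionRing.injective A (FractionRing A))] at e4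
      exact e4.symm
    have e7 : IsField A := IsLocalRing.isField_iff_maximalIdeal_eq.mpr e3
    have e8 := ringKrullDim_eq_zero_of_isField e7
    rw [hdim] at e8
    exact one_ne_zero e8
  let k : Spec (CommRingCat.of (FractionRing A)) ⟶ (U : Scheme.{u}) :=
    IsOpenImmersion.lift U.ι φ₀ hrange'
  have hk : k ≫ U.ι = φ₀ := IsOpenImmersion.lift_fac _ _ _
  have hk' : k ≫ U.ι = Spec.map (CommRingCat.ofHom (algebraMap A (FractionRing A))) ≫
      (W : Scheme.{u}).fromSpecStalk c := hk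
  obtain ⟨l, hl1, hl2⟩ := Hcrit (W : Scheme.{u}) r hnormal c hcl hdim U hU u g hgr hug k hk
  have hlw : l ≫ f = ((W : Scheme.{u}).fromSpecStalk c ≫ W.ι ≫ π) ≫ gT := by
    rw [hl1]
    simp only [g, Category.assoc, hπ]
  let l' : Spec A ⟶ P := hP.lift l ((W : Scheme.{u}).fromSpecStalk c ≫ W.ι ≫ π) hlw
  have hl'a : l' ≫ a = l := hP.lift_fst _ _ _
  have hl'b : l' ≫ b = (W : Scheme.{u}).fromSpecStalk c ≫ W.ι ≫ π := hP.lift_snd _ _ _
  have hgen : Spec.map (CommRingCat.ofHom (algebraMap A (FractionRing A))) ≫ l' = k ≫ j ≫ v := by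
    apply hP.hom_ext
    · rw [Category.assoc, hl'a, hl2]
      simp only [u, Category.assoc]
    · rw [Category.assoc, hl'b, Category.assoc, Category.assoc, hv, reassoc_of% hj,
        ← reassoc_of% hk']
  refine ⟨l' (IsLocalRing.closedPoint A), ?_, ?_⟩
  · let pt₀ : Spec (CommRingCat.of (FractionRing A)) := ⟨⊥, Ideal.isPrime_bot⟩
    have h1 : l' (Spec.map (CommRingCat.ofHom (algebraMap A (FractionRing A))) pt₀) ∈ Z := by
      have h2 : l' (Spec.map (CommRingCat.ofHom (algebraMap A (FractionRing A))) pt₀) =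
          v (j (k pt₀)) := by
        have := congr(($hgen) pt₀)
        simpa only [Scheme.Hom.comp_apply] using this
      rw [h2]
      exact hvZ _
    have h3 : Spec.map (CommRingCat.ofHom (algebraMap A (FractionRing A))) pt₀ ⤳
        IsLocalRing.closedPoint A := IsLocalRing.specializes_closedPoint _
    exact hZ.stableUnderSpecialization (h3.map l'.continuous) h1
  · have h5 : b (l' (IsLocalRing.closedPoint A)) =
        π (W.ι ((W : Scheme.{u}).fromSpecStalk c (IsLocalRing.closedPoint A))) :=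
      congr(($hl'b) (IsLocalRing.closedPoint A))
    rw [Scheme.fromSpecStalk_closedPoint] at h5
    exact h5

end Groth.Agent.Lib.Helper39.CC
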