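import Mathlib
import Groth.Prelude.Def_Found
import Groth.Agent.Lib.Helper39.CC.Curve

set_option autoImplicit false
set_option linter.style.haveILetI false
universe u
open CategoryTheory AlgebraicGeometry

namespace Groth.Agent.Lib.Helper39.CC

/-- Step M1: a point of `Z` over the generic point of `Spec R` specializes (inside the generic
fibre) to a point with finite residue field, represented by a `K`-point. -/
theorem exists_finite_point {X Y : Scheme.{u}} (f : X ⟶ Y) [LocallyOfFiniteType f]
    (R : Type u) [CommRing R] [IsDomain R]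
    (gR : Spec (CommRingCat.of R) ⟶ Y)
    {P : Scheme.{u}} (a : P ⟶ X) (b : P ⟶ Spec (CommRingCat.of R)) (hP : IsPullback a b f gR)
    (Z : Set P) (hZ : IsClosed Z) (z₁ : P) (hz₁ : z₁ ∈ Z) (hbz₁ : (b z₁).asIdeal = ⊥) :
    ∃ (K : Type u) (_ : Field K) (_ : Algebra (FractionRing R) K) (_ : Algebra R K)
      (_ : IsScalarTower R (FractionRing R) K) (_ : FiniteDimensional (FractionRing R) K)
      (κ : Spec (CommRingCat.of K) ⟶ P),
      κ ≫ b = Spec.map (CommRingCat.ofHom (algebraMap R K)) ∧ ∀ pt, κ pt ∈ Z := by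
  classical
  haveI : LocallyOfFiniteType b := MorphismProperty.of_isPullback hP inferInstance
  obtain ⟨D, ι₁, hι₁, ⟨p₁, hp₁⟩, -⟩ :=
    Scheme.exists_affine_mem_range_and_range_subset (show z₁ ∈ (⊤ : P.Opens) from trivial)
  obtain ⟨ρ, hρ⟩ := Spec.map_surjective (ι₁ ≫ b)
  letI : Algebra R D := ρ.hom.toAlgebra
  haveI : Algebra.FiniteType R D := by
    have h1 : LocallyOfFiniteType (Spec.map ρ) := by rw [hρ]; infer_instance
    exact (HasRingHomProperty.Spec_iff (P := @LocallyOfFiniteType)).mp h1
  haveI : p₁.asIdeal.IsPrime := p₁.isPrime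
  have hcomap : p₁.asIdeal.comap (algebraMap R D) = ⊥ := by
    have h1 : (Spec.map ρ) p₁ = b z₁ := by
      rw [hρ, Scheme.Hom.comp_apply, hp₁]
    have h2 : ((Spec.map ρ) p₁).asIdeal = p₁.asIdeal.comap ρ.hom := rfl
    rw [← hbz₁, ← h1, h2]
    rfl
  obtain ⟨K, hK1, hK2, hK3, hK4, hK5, ψ, hψ⟩ := exists_finite_field_point R D p₁.asIdeal hcomap
  refine ⟨K, hK1, hK2, hK3, hK4, hK5,
    Spec.map (CommRingCat.ofHom (ψ : D →+* K)) ≫ ι₁, ?_, ?_⟩
  · rw [Category.assoc, ← hρ, ← Spec.map_comp]
    congr 1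
    ext r
    exact ψ.commutes r
  · intro pt
    have h1 : p₁ ⤳ Spec.map (CommRingCat.ofHom (ψ : D →+* K)) pt := by
      refine (PrimeSpectrum.le_iff_specializes (p₁ : PrimeSpectrum D)
        (Spec.map (CommRingCat.ofHom (ψ : D →+* K)) pt : PrimeSpectrum D)).mp ?_
      intro x hx
      have hx' : x ∈ RingHom.ker (ψ : D →+* K) := hψ hx
      change (ψ : D →+* K) x ∈ pt.asIdeal
      rw [RingHom.mem_ker.mp hx']
      exact Ideal.zero_mem _
    have h2 := h1.map ι₁.continuous
    rw [hp₁] at h2
    exact hZ.stableUnderSpecialization h2 hz₁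

end Groth.Agent.Lib.Helper39.CC

namespace Groth.Agent.Lib.Helper39.CC

/-- **Lemma M.** Over an integral affine base `Spec R` (Noetherian, N-2) with a "height one" prime
`𝔮` which is closed in `D(h)`: if a closed subset `Z` of a base change of `f` meets the generic
fibre, then (under the curve criterion) it meets the fibre over `𝔮`. -/
theorem mem_image_of_curveCrit {S X Y : Scheme.{u}} (q : Y ⟶ S) (f : X ⟶ Y)
    [LocallyOfFiniteType f] (Hcrit : CurveCrit q f)
    (R : Type u) [CommRing R] [IsDomain R] [IsNoetherianRing R] (hN2 : CAlg.IsN2 R)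
    (sR : Spec (CommRingCat.of R) ⟶ S) [LocallyOfFiniteType sR]
    (gR : Spec (CommRingCat.of R) ⟶ Y) (hgR : gR ≫ q = sR)
    {P : Scheme.{u}} (a : P ⟶ X) (b : P ⟶ Spec (CommRingCat.of R)) (hP : IsPullback a b f gR)
    (Z : Set P) (hZ : IsClosed Z) (z₁ : P) (hz₁ : z₁ ∈ Z) (hbz₁ : (b z₁).asIdeal = ⊥)
    (𝔮 : Ideal R) [𝔮.IsPrime] (h𝔮 : 𝔮 ≠ ⊥)
    (hcov : ∀ P' : Ideal R, P'.IsPrime → P' < 𝔮 → P' = ⊥)
    (h : R) (hh : h ∉ 𝔮) (hcl : ∀ Q : Ideal R, Q.IsPrime → 𝔮 < Q → h ∈ Q) :
    ∃ z ∈ Z, (b z).asIdeal = 𝔮 := by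
  classical
  haveI : LocallyOfFiniteType b := MorphismProperty.of_isPullback hP inferInstance
  obtain ⟨K, _, _, _, _, _, κ, hκb, hκZ⟩ := exists_finite_point f R gR a b hP Z hZ z₁ hz₁ hbz₁
  obtain ⟨hfin, hic, hfr, n, hnprime, hncomap, hn0, hnα, hnh, hnγ⟩ :=
    normal_curve_package R hN2 K 𝔮 h𝔮 hcov h hh hcl
  haveI : IsNoetherianRing (integralClosure R K) :=
    Algebra.FiniteType.isNoetherianRing R (integralClosure R K)
  let π : Spec (CommRingCat.of (integralClosure R K)) ⟶ Spec (CommRingCat.of R) :=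
    Spec.map (CommRingCat.ofHom (algebraMap R (integralClosure R K)))
  haveI : LocallyOfFiniteType π := by
    refine (HasRingHomProperty.Spec_iff (P := @LocallyOfFiniteType)).mpr ?_
    change (algebraMap R (integralClosure R K)).FiniteType
    rw [RingHom.finiteType_algebraMap]
    infer_instance
  haveI : IsDomain (CommRingCat.of (integralClosure R K)) :=
    inferInstanceAs (IsDomain (integralClosure R K))
  haveI : IsIntegral (Spec (CommRingCat.of (integralClosure R K))) := inferInstance
  let C₀ := Spec (CommRingCat.of (integralClosure R K))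
  let η : C₀ := genericPoint C₀
  letI : Algebra (integralClosure R K) C₀.functionField :=
    instAlgebraCarrierFunctionFieldSpec (CommRingCat.of (integralClosure R K))
  haveI : IsFractionRing (integralClosure R K) C₀.functionField :=
    functionField_isFractionRing_of_affine (CommRingCat.of (integralClosure R K))
  let e : K ≃ₐ[integralClosure R K] C₀.functionField :=
    IsLocalization.algEquiv (nonZeroDivisors (integralClosure R K)) K C₀.functionField
  let eH : CommRingCat.of K ⟶ C₀.presheaf.stalk η :=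
    CommRingCat.ofHom (e : K →+* C₀.functionField)
  let φ : Spec (C₀.presheaf.stalk η) ⟶ P := Spec.map eH ≫ κ
  have h1 : CommRingCat.ofHom (algebraMap R K) ≫ eH =
      CommRingCat.ofHom (algebraMap R (integralClosure R K)) ≫
        StructureSheaf.toStalk (CommRingCat.of (integralClosure R K)) η := by
    ext r
    change e (algebraMap R K r) = algebraMap (integralClosure R K) C₀.functionField
      (algebraMap R (integralClosure R K) r)
    rw [IsScalarTower.algebraMap_apply R (integralClosure R K) K, AlgEquiv.commutes]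
  have hφ : φ ≫ b = C₀.fromSpecStalk η ≫ π := by
    have e1 : φ ≫ b = Spec.map eH ≫ Spec.map (CommRingCat.ofHom (algebraMap R K)) := by
      dsimp only [φ]
      rw [Category.assoc, hκb]
    have e2 : Spec.map eH ≫ Spec.map (CommRingCat.ofHom (algebraMap R K)) =
        Spec.map (CommRingCat.ofHom (algebraMap R K) ≫ eH) := (Spec.map_comp _ _).symm
    have e3 : Spec.map (CommRingCat.ofHom (algebraMap R K) ≫ eH) =
        Spec.map (CommRingCat.ofHom (algebraMap R (integralClosure R K)) ≫
            StructureSheaf.toStalk (CommRingCat.of (integralClosure R K)) η) :=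
      congrArg Spec.map h1
    have e4 : Spec.map (CommRingCat.ofHom (algebraMap R (integralClosure R K)) ≫
            StructureSheaf.toStalk (CommRingCat.of (integralClosure R K)) η) =
        Spec.map (StructureSheaf.toStalk (CommRingCat.of (integralClosure R K)) η) ≫ π :=
      Spec.map_comp _ _
    have e5 : C₀.fromSpecStalk η =
        Spec.map (StructureSheaf.toStalk (CommRingCat.of (integralClosure R K)) η) :=
      Spec.fromSpecStalk_eq' _ _
    exact (e1.trans (e2.trans (e3.trans e4))).trans (congrArg (· ≫ π) e5.symm)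
  obtain ⟨V, hηV, v, hφv, hvb⟩ := spread_out_of_isGermInjective' π b φ hφ
  have hvη : v ⟨η, hηV⟩ ∈ Z := by
    have h1 : V.fromSpecStalkOfMem η hηV (IsLocalRing.closedPoint (C₀.presheaf.stalk η)) =
        ⟨η, hηV⟩ := by
      apply V.ι.isOpenEmbedding.injective
      have h2 := congr(($(V.fromSpecStalkOfMem_ι η hηV))
        (IsLocalRing.closedPoint (C₀.presheaf.stalk η)))
      rw [Scheme.fromSpecStalk_closedPoint] at h2
      exact h2
    have h3 : φ (IsLocalRing.closedPoint (C₀.presheaf.stalk η)) = v ⟨η, hηV⟩ := by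
      rw [← h1]
      exact congr(($hφv) (IsLocalRing.closedPoint (C₀.presheaf.stalk η)))
    rw [← h3]
    exact hκZ _
  have hηgen : ∀ x : C₀, η ⤳ x := fun x => genericPoint_specializes x
  obtain ⟨z, hzZ, hbz⟩ := curve_step q f Hcrit (integralClosure R K) n hn0 hnα
    (algebraMap R (integralClosure R K) h) hnh hnγ (π ≫ sR) (π ≫ gR)
    (by rw [Category.assoc, hgR]) a b gR hP π rfl Z hZ V η hηV hηgen v hvb hvη
  refine ⟨z, hzZ, ?_⟩
  rw [hbz]
  exact hncomap

end Groth.Agent.Lib.Helper39.CC
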