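import Mathlib
import Groth.Agent.Lib.Helper39.CC.Avoid

/-!
# Non-closed constructible subsets of a Noetherian spectrum

If `E ⊆ Spec B` is constructible but not closed (with `B` Noetherian), there are primes
`p ∈ E`, `q ∉ E` with `p < q`, no prime strictly in between, and `q` closed in a basic open `D(h)`.
-/

namespace Groth.Agent.Lib.Helper39.CC

open PrimeSpectrum Topology

set_option autoImplicit false

universe u

theorem isConstructible_of_isClosed {B : Type u} [CommRing B] [IsNoetherianRing B]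
    {Z : Set (PrimeSpectrum B)} (hZ : IsClosed Z) : IsConstructible Z := by
  rw [← isConstructible_compl]
  exact (TopologicalSpace.NoetherianSpace.isCompact _).isConstructible hZ.isOpen_compl

theorem exists_covBy_pair {B : Type u} [CommRing B] [IsNoetherianRing B]
    (E : Set (PrimeSpectrum B)) (hE : IsConstructible E) (hnc : ¬ IsClosed E) :
    ∃ (p q : PrimeSpectrum B) (h : B), p ∈ E ∧ q ∉ E ∧ p.asIdeal < q.asIdeal ∧
      (∀ r : Ideal B, r.IsPrime → p.asIdeal < r → r ≤ q.asIdeal → r = q.asIdeal) ∧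
      h ∉ q.asIdeal ∧ (∀ Q : Ideal B, Q.IsPrime → q.asIdeal < Q → h ∈ Q) := by
  classical
  let F : Set (PrimeSpectrum B) := closure E \ E
  have hFne : F.Nonempty := by
    by_contra hem
    rw [Set.not_nonempty_iff_eq_empty, Set.diff_eq_empty] at hem
    exact hnc (closure_eq_iff_isClosed.mp (le_antisymm hem subset_closure))
  have hFc : IsConstructible F := (isConstructible_of_isClosed isClosed_closure).sdiff hE
  -- a maximal element of F
  let Sg : Set (Ideal B) := {I | ∃ x ∈ F, x.asIdeal = I}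
  have hSgne : Sg.Nonempty := by
    obtain ⟨x, hx⟩ := hFne
    exact ⟨x.asIdeal, x, hx, rfl⟩
  obtain ⟨I, ⟨q, hqF, rfl⟩, hqmax⟩ := set_has_maximal_iff_noetherian.mpr
    (inferInstance : IsNoetherian B B) Sg hSgne
  have hqmax' : ∀ x ∈ F, ¬ q.asIdeal < x.asIdeal := fun x hx => hqmax x.asIdeal ⟨x, hx, rfl⟩
  -- F as constructible data
  obtain ⟨SF, hSF⟩ := exists_constructibleSetData_iff.mpr hFc
  have hqSF : q ∈ SF.toSet := hSF ▸ hqF
  simp only [ConstructibleSetData.toSet, Set.mem_iUnion, exists_prop] at hqSF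
  obtain ⟨C, hCS, hqC⟩ := hqSF
  have hCF : C.toSet ⊆ F := by
    rw [← hSF]
    intro x hx
    simp only [ConstructibleSetData.toSet, Set.mem_iUnion, exists_prop]
    exact ⟨C, hCS, hx⟩
  obtain ⟨hqg, hqf⟩ := hqC
  have hhq : C.f ∉ q.asIdeal := by
    intro hmem
    apply hqf
    rw [mem_zeroLocus]
    intro y hy
    rw [Set.mem_singleton_iff.mp hy]
    exact hmem
  have hcl : ∀ Q : Ideal B, Q.IsPrime → q.asIdeal < Q → C.f ∈ Q := by
    intro Q hQ hqQ
    by_contra hfQ
    have hQC : (⟨Q, hQ⟩ : PrimeSpectrum B) ∈ C.toSet := by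
      refine ⟨?_, ?_⟩
      · rw [mem_zeroLocus] at hqg ⊢
        exact hqg.trans (SetLike.coe_subset_coe.mpr hqQ.le)
      · intro hmem
        rw [mem_zeroLocus] at hmem
        exact hfQ (hmem (Set.mem_singleton _))
    exact hqmax' _ (hCF hQC) hqQ
  -- q in closure E gives a generization in E
  obtain ⟨S', _, f, hf⟩ := exists_range_eq_of_isConstructible hE
  have hqcl : q ∈ closure (Set.range (comap f)) := by
    rw [hf]; exact hqF.1
  rw [closure_range_comap, mem_zeroLocus] at hqcl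
  obtain ⟨Q', -, hQ'prime, hQ'le⟩ := Ideal.exists_ideal_comap_le_prime (f := f) q.asIdeal
    (⊥ : Ideal S') (by
      rw [← RingHom.ker_eq_comap_bot]
      exact hqcl)
  let e₀ : PrimeSpectrum B := comap f ⟨Q', hQ'prime⟩
  have he₀E : e₀ ∈ E := by
    rw [← hf]; exact ⟨_, rfl⟩
  have he₀le : e₀.asIdeal ≤ q.asIdeal := hQ'le
  have he₀lt : e₀.asIdeal < q.asIdeal := by
    refine lt_of_le_of_ne he₀le ?_
    intro e
    have : e₀ = q := PrimeSpectrum.ext e
    exact hqF.2 (this ▸ he₀E)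
  obtain ⟨SE, hSE⟩ := exists_constructibleSetData_iff.mpr hE
  have he₀SE : e₀ ∈ SE.toSet := hSE ▸ he₀E
  simp only [ConstructibleSetData.toSet, Set.mem_iUnion, exists_prop] at he₀SE
  obtain ⟨C', hC'S, he₀C'⟩ := he₀SE
  have hC'E : C'.toSet ⊆ E := by
    rw [← hSE]
    intro x hx
    simp only [ConstructibleSetData.toSet, Set.mem_iUnion, exists_prop]
    exact ⟨C', hC'S, hx⟩
  obtain ⟨he₀g, he₀f⟩ := he₀C'
  have hf'e₀ : C'.f ∉ e₀.asIdeal := by
    intro hmem
    apply he₀f
    rw [mem_zeroLocus]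
    intro y hy
    rw [Set.mem_singleton_iff.mp hy]
    exact hmem
  obtain ⟨p, hpprime, he₀p, hpq, hf'p, hcov⟩ :=
    exists_prime_covBy_not_mem e₀.asIdeal q.asIdeal he₀lt C'.f hf'e₀
  have hpE : (⟨p, hpprime⟩ : PrimeSpectrum B) ∈ E := by
    apply hC'E
    refine ⟨?_, ?_⟩
    · rw [mem_zeroLocus] at he₀g ⊢
      exact he₀g.trans (SetLike.coe_subset_coe.mpr he₀p)
    · intro hmem
      rw [mem_zeroLocus] at hmem
      exact hf'p (hmem (Set.mem_singleton _))
  exact ⟨⟨p, hpprime⟩, q, C.f, hpE, hqF.2, hpq, hcov, hhq, hcl⟩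

end Groth.Agent.Lib.Helper39.CC
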