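import Mathlib
import Groth.Prelude.Def_Found
import Groth.Agent.Lib.Helper39.CC.LemmaM
import Groth.Agent.Lib.Helper39.CC.Top

set_option autoImplicit false
set_option linter.style.haveILetI false
universe u
open CategoryTheory AlgebraicGeometry Limits Topology

namespace Groth.Agent.Lib.Helper39.CC

/-- Closedness of the base change of `f` to an affine Noetherian base all of whose
domain quotients are N-2, under the curve criterion. -/
theorem isClosedMap_of_curveCrit_affine {S X Y : Scheme.{u}} (q : Y ⟶ S) (f : X ⟶ Y)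
    [LocallyOfFiniteType f] [QuasiCompact f] (Hcrit : CurveCrit q f)
    (B : Type u) [CommRing B] [IsNoetherianRing B]
    (hB : ∀ (p : Ideal B) [p.IsPrime], CAlg.IsN2 (B ⧸ p))
    (sB : Spec (CommRingCat.of B) ⟶ S) [LocallyOfFiniteType sB]
    (gB : Spec (CommRingCat.of B) ⟶ Y) (hgB : gB ≫ q = sB)
    {P : Scheme.{u}} (a : P ⟶ X) (b : P ⟶ Spec (CommRingCat.of B)) (hP : IsPullback a b f gB) :
    IsClosedMap b := by
  classical
  haveI : LocallyOfFiniteType b := MorphismProperty.of_isPullback hP inferInstance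
  haveI : QuasiCompact b := MorphismProperty.of_isPullback hP inferInstance
  haveI : IsLocallyNoetherian P := LocallyOfFiniteType.isLocallyNoetherian b
  haveI : CompactSpace P := QuasiCompact.compactSpace_of_compactSpace b
  haveI : IsNoetherian P := {}
  intro Z hZ
  by_contra hnc
  have hZc : IsConstructible Z := by
    rw [← isConstructible_compl]
    exact (TopologicalSpace.NoetherianSpace.isCompact _).isConstructible hZ.isOpen_compl
  have hE : IsConstructible (b '' Z) := Scheme.Hom.isConstructible_image b hZc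
  obtain ⟨p, qq, h, hpE, hqE, hpq, hcovB, hhq, hclB⟩ :=
    exists_covBy_pair (B := B) (b '' Z) hE hnc
  haveI := p.isPrime
  haveI := qq.isPrime
  let R := B ⧸ p.asIdeal
  let mk : B →+* R := Ideal.Quotient.mk p.asIdeal
  have hmk : Function.Surjective mk := Ideal.Quotient.mk_surjective
  have hker : RingHom.ker mk = p.asIdeal := Ideal.mk_ker
  haveI : IsDomain R := Ideal.Quotient.isDomain p.asIdeal
  let jm : Spec (CommRingCat.of R) ⟶ Spec (CommRingCat.of B) := Spec.map (CommRingCat.ofHom mk)
  haveI : LocallyOfFiniteType jm := by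
    refine (HasRingHomProperty.Spec_iff (P := @LocallyOfFiniteType)).mpr ?_
    exact RingHom.FiniteType.of_surjective mk hmk
  -- the pasted pullback square
  have hP'' : IsPullback (pullback.fst b jm ≫ a) (pullback.snd b jm) f (jm ≫ gB) :=
    (IsPullback.of_hasPullback b jm).paste_horiz hP
  let Z'' : Set ↑(pullback b jm) := (pullback.fst b jm) ⁻¹' Z
  have hZ'' : IsClosed Z'' := hZ.preimage (pullback.fst b jm).continuous
  -- a point over the generic point
  obtain ⟨z, hzZ, hbz⟩ := hpE
  let η : Spec (CommRingCat.of R) := (⟨⊥, Ideal.isPrime_bot⟩ : PrimeSpectrum R)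
  have hjη : jm η = p := by
    apply PrimeSpectrum.ext
    change (⊥ : Ideal R).comap mk = p.asIdeal
    rw [← RingHom.ker_eq_comap_bot, hker]
  obtain ⟨z₁, hz₁a, hz₁b⟩ := Scheme.Pullback.exists_preimage_pullback (f := b) (g := jm) z η
    (by rw [hbz, hjη])
  have hz₁Z : z₁ ∈ Z'' := by
    change pullback.fst b jm z₁ ∈ Z
    rw [hz₁a]; exact hzZ
  have hbz₁ : ((pullback.snd b jm) z₁).asIdeal = ⊥ := by rw [hz₁b]
  -- the prime 𝔮
  let 𝔮 : Ideal R := qq.asIdeal.map mk
  haveI h𝔮prime : 𝔮.IsPrime :=
    Ideal.map_isPrime_of_surjective hmk (by rw [hker]; exact hpq.le)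
  have hcomap𝔮 : 𝔮.comap mk = qq.asIdeal := by
    rw [Ideal.comap_map_of_surjective mk hmk, ← RingHom.ker_eq_comap_bot, hker]
    exact sup_eq_left.mpr hpq.le
  have h𝔮0 : 𝔮 ≠ ⊥ := by
    intro e
    have : qq.asIdeal = p.asIdeal := by
      rw [← hcomap𝔮, e, ← RingHom.ker_eq_comap_bot, hker]
    exact hpq.ne' this
  have hcov : ∀ P' : Ideal R, P'.IsPrime → P' < 𝔮 → P' = ⊥ := by
    intro P' hP' hlt
    have h1 : p.asIdeal ≤ P'.comap mk := by
      have h0 : RingHom.ker mk ≤ P'.comap mk := by
        rw [RingHom.ker_eq_comap_bot]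
        exact Ideal.comap_mono bot_le
      exact le_trans (le_of_eq hker.symm) h0
    have h2 : P'.comap mk < qq.asIdeal := by
      rw [← hcomap𝔮]
      refine lt_of_le_of_ne (Ideal.comap_mono hlt.le) ?_
      intro e
      exact hlt.ne (Ideal.comap_injective_of_surjective mk hmk e)
    by_contra hne
    have h3 : p.asIdeal < P'.comap mk := by
      refine lt_of_le_of_ne h1 ?_
      intro e
      apply hne
      have : P'.comap mk = (⊥ : Ideal R).comap mk := by
        rw [← RingHom.ker_eq_comap_bot, hker]; exact e.symm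
      exact Ideal.comap_injective_of_surjective mk hmk this
    have := hcovB (P'.comap mk) (Ideal.comap_isPrime mk P') h3 h2.le
    exact h2.ne this
  have hh' : mk h ∉ 𝔮 := by
    intro hmem
    apply hhq
    rw [← hcomap𝔮]
    exact hmem
  have hcl : ∀ Q : Ideal R, Q.IsPrime → 𝔮 < Q → mk h ∈ Q := by
    intro Q hQ hlt
    have h2 : qq.asIdeal < Q.comap mk := by
      rw [← hcomap𝔮]
      refine lt_of_le_of_ne (Ideal.comap_mono hlt.le) ?_
      intro e
      exact hlt.ne (Ideal.comap_injective_of_surjective mk hmk e)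
    exact hclB (Q.comap mk) (Ideal.comap_isPrime mk Q) h2
  obtain ⟨z'', hz''Z, hbz''⟩ := mem_image_of_curveCrit q f Hcrit R (hB p.asIdeal)
    (jm ≫ sB) (jm ≫ gB) (by rw [Category.assoc, hgB]) (pullback.fst b jm ≫ a)
    (pullback.snd b jm) hP'' Z'' hZ'' z₁ hz₁Z hbz₁ 𝔮 h𝔮0 hcov (mk h) hh' hcl
  apply hqE
  refine ⟨pullback.fst b jm z'', hz''Z, ?_⟩
  have hc := congr(($(pullback.condition (f := b) (g := jm))) z'')
  have hc' : b (pullback.fst b jm z'') = jm (pullback.snd b jm z'') := hc
  rw [hc']
  apply PrimeSpectrum.ext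
  change ((pullback.snd b jm) z'').asIdeal.comap mk = qq.asIdeal
  rw [hbz'', hcomap𝔮]

end Groth.Agent.Lib.Helper39.CC
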