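import Mathlib
import Groth.Prelude.Def_Found
import Groth.Agent.Lib.Helper39.CC.Closed
import Groth.Agent.Lib.Helper39.UCFT

set_option autoImplicit false
set_option linter.style.haveILetI false
universe u
open CategoryTheory AlgebraicGeometry Limits Topology

namespace Groth.Agent.Lib.Helper39.CC

/-- **Universal closedness from the curve criterion** (Stacks 0CM5, direction `⇐`), assuming that
finite type algebras over the rings of affine opens of `S` are Nagata. -/
theorem universallyClosed_of_curveCrit (S : Scheme.{u})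
    (hS : ∀ (W : S.affineOpens) (B : Type u) [CommRing B] [Algebra Γ(S, W) B]
      [Algebra.FiniteType Γ(S, W) B], CAlg.IsNagata B)
    {X Y : Scheme.{u}} (p : X ⟶ S) (q : Y ⟶ S) [LocallyOfFiniteType p] [LocallyOfFiniteType q]
    (f : X ⟶ Y) (hf : f ≫ q = p) [QuasiCompact f] (Hcrit : CurveCrit q f) :
    UniversallyClosed f := by
  classical
  haveI : LocallyOfFiniteType (f ≫ q) := by rw [hf]; infer_instance
  haveI : LocallyOfFiniteType f := locallyOfFiniteType_of_comp f q
  apply UCFT.universallyClosed_of_closed_finiteType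
  intro T g hg
  haveI := hg
  have hcov : ∀ t : T, ∃ (R : CommRingCat.{u}) (ι : Spec R ⟶ T), IsOpenImmersion ι ∧
      t ∈ Set.range ι ∧ ∃ W : S.affineOpens, Set.range (ι ≫ g ≫ q) ⊆ (W : Set S) := by
    intro t
    obtain ⟨_, ⟨W, hW, rfl⟩, htW, -⟩ := S.isBasis_affineOpens.exists_subset_of_mem_open
      (Set.mem_univ ((g ≫ q) t)) isOpen_univ
    obtain ⟨R, ι, hι, htι, hsub⟩ := Scheme.exists_affine_mem_range_and_range_subset
      (show t ∈ (g ≫ q) ⁻¹ᵁ W from htW)
    refine ⟨R, ι, hι, htι, ⟨W, hW⟩, ?_⟩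
    rintro _ ⟨x, rfl⟩
    exact hsub ⟨x, rfl⟩
  choose R ι hι ht W hW using hcov
  let 𝒰 : T.OpenCover := Scheme.Cover.mkOfCovers T (fun t => Spec (R t)) ι
    (fun t => ⟨t, ht t⟩) hι
  change topologically @IsClosedMap (pullback.snd f g)
  rw [IsZariskiLocalAtTarget.iff_of_openCover (P := topologically @IsClosedMap) 𝒰]
  intro t
  change IsClosedMap (pullback.snd (pullback.snd f g) (ι t))
  -- algebra structure over Γ(S, W t)
  haveI : IsOpenImmersion (ι t) := hι t
  haveI : LocallyOfFiniteType (ι t ≫ g ≫ q) := inferInstance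
  have hrange : Set.range (ι t ≫ g ≫ q) ⊆ Set.range (W t).2.fromSpec := by
    rw [(W t).2.range_fromSpec]
    exact hW t
  haveI : IsOpenImmersion (W t).2.fromSpec := (W t).2.isOpenImmersion_fromSpec
  let φm : Spec (R t) ⟶ Spec Γ(S, (W t : S.Opens)) :=
    IsOpenImmersion.lift (W t).2.fromSpec (ι t ≫ g ≫ q) hrange
  have hφm : φm ≫ (W t).2.fromSpec = ι t ≫ g ≫ q := IsOpenImmersion.lift_fac _ _ _
  haveI : LocallyOfFiniteType (φm ≫ (W t).2.fromSpec) := by rw [hφm]; infer_instance
  haveI : LocallyOfFiniteType φm := locallyOfFiniteType_of_comp φm (W t).2.fromSpec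
  obtain ⟨φ, hφ⟩ := Spec.map_surjective φm
  letI : Algebra Γ(S, (W t : S.Opens)) (R t) := φ.hom.toAlgebra
  haveI : Algebra.FiniteType Γ(S, (W t : S.Opens)) (R t) := by
    have h1 : LocallyOfFiniteType (Spec.map φ) := by rw [hφ]; infer_instance
    exact (HasRingHomProperty.Spec_iff (P := @LocallyOfFiniteType)).mp h1
  have hNag : CAlg.IsNagata (R t) := hS (W t) (R t)
  haveI : IsNoetherianRing (R t) := hNag.1
  have hB : ∀ (p : Ideal (R t)) [p.IsPrime], CAlg.IsN2 ((R t) ⧸ p) := fun p _ => hNag.2 p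
  have hPt : IsPullback (pullback.fst (pullback.snd f g) (ι t) ≫ pullback.fst f g)
      (pullback.snd (pullback.snd f g) (ι t)) f (ι t ≫ g) :=
    (IsPullback.of_hasPullback (pullback.snd f g) (ι t)).paste_horiz
      (IsPullback.of_hasPullback f g)
  exact isClosedMap_of_curveCrit_affine q f Hcrit (R t) hB (ι t ≫ g ≫ q) (ι t ≫ g)
    (by rw [Category.assoc]) _ _ hPt

end Groth.Agent.Lib.Helper39.CC
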